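import Groth.Prelude.Def_KZero2
import Mathlib.CategoryTheory.Triangulated.Pretriangulated
import Mathlib.CategoryTheory.Abelian.Basic
import Mathlib.Tactic.Ring
import Mathlib.CategoryTheory.Limits.Preserves.Shapes.Products

/-!
Elementary properties of Grothendieck groups of triangulated and abelian categories.
-/

set_option autoImplicit false

universe v u

open CategoryTheory CategoryTheory.Limits CategoryTheory.Pretriangulated
open scoped ZeroObject

namespace Groth.Agent.An92.KZero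

open _root_.KZero

section Triangulated

variable {C : Type u} [Category.{v} C] [Preadditive C] [HasZeroObject C] [HasShift C ℤ]
  [∀ n : ℤ, (shiftFunctor C n).Additive] [Pretriangulated C]

theorem clTri_triangle (T : Triangle C) (hT : T ∈ distinguishedTriangles) :
    clTri T.obj₂ = clTri T.obj₁ + clTri T.obj₃ := by
  have h : (QuotientAddGroup.mk (FreeAbelianGroup.of (⟨T.obj₂, trivial⟩ : Subtype (⊤ : ObjectProperty C)) -
      FreeAbelianGroup.of (⟨T.obj₁, trivial⟩ : Subtype (⊤ : ObjectProperty C)) -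
      FreeAbelianGroup.of (⟨T.obj₃, trivial⟩ : Subtype (⊤ : ObjectProperty C))) : K0tri C) = 0 :=
    (QuotientAddGroup.eq_zero_iff _).2
      (AddSubgroup.subset_closure ⟨T, trivial, trivial, trivial, hT, rfl⟩)
  rw [QuotientAddGroup.mk_sub, QuotientAddGroup.mk_sub] at h
  change clTri T.obj₂ - clTri T.obj₁ - clTri T.obj₃ = 0 at h
  rw [sub_sub] at h
  exact sub_eq_zero.1 h

theorem clTri_zero : clTri (0 : C) = 0 := by
  have h : clTri (0 : C) = clTri (0 : C) + clTri (0 : C) :=
    clTri_triangle _ (contractible_distinguished (0 : C))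
  exact (add_eq_left).1 h.symm

theorem clTri_eq_of_iso {X Y : C} (e : X ≅ Y) : clTri X = clTri Y := by
  have hT : Triangle.mk e.hom (0 : Y ⟶ 0) 0 ∈ distTriang C :=
    isomorphic_distinguished _ (contractible_distinguished X) _
      (Triangle.isoMk (Triangle.mk e.hom (0 : Y ⟶ 0) 0) (contractibleTriangle X) (Iso.refl X) e.symm
        (Iso.refl (0 : C))
        (by exact (e.hom_inv_id).trans (Category.comp_id _).symm)
        (by exact zero_comp.trans comp_zero.symm) (by exact zero_comp.trans comp_zero.symm))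
  have h : clTri Y = clTri X + clTri (0 : C) := clTri_triangle _ hT
  rw [clTri_zero, add_zero] at h
  exact h.symm

theorem clTri_shift_one (X : C) : clTri (X⟦(1 : ℤ)⟧) = -clTri X := by
  have h : clTri (0 : C) = clTri X + clTri (X⟦(1 : ℤ)⟧) :=
    clTri_triangle _ (rot_of_distTriang _ (contractible_distinguished X))
  rw [clTri_zero] at h
  exact eq_neg_of_add_eq_zero_right h.symm

theorem clTri_shift_succ (X : C) (m : ℤ) : clTri (X⟦m + 1⟧) = -clTri (X⟦m⟧) := by
  rw [clTri_eq_of_iso ((shiftFunctorAdd' C m 1 (m + 1) rfl).app X)]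
  exact clTri_shift_one _

theorem clTri_shift_two_mul (X : C) (n : ℤ) : clTri (X⟦2 * n⟧) = clTri X := by
  induction n with
  | zero => exact clTri_eq_of_iso ((shiftFunctorZero' C (2 * (0 : ℤ)) (by simp)).app X)
  | succ n ih =>
    rw [show (2 : ℤ) * ((n : ℤ) + 1) = 2 * (n : ℤ) + 1 + 1 by ring, clTri_shift_succ,
      clTri_shift_succ, neg_neg, ih]
  | pred n ih =>
    rw [← ih, show (2 : ℤ) * (-(n : ℤ)) = 2 * (-(n : ℤ) - 1) + 1 + 1 by ring, clTri_shift_succ,
      clTri_shift_succ, neg_neg]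

theorem clTri_biprod (X Y : C) : clTri (X ⊞ Y) = clTri X + clTri Y :=
  clTri_triangle _ (binaryBiproductTriangle_distinguished X Y)

theorem clTri_eq_zero_of_coproduct_shifts (L : C) (m : ℤ) (hm : ∀ X : C, clTri (X⟦m⟧) = clTri X)
    [HasCoproduct (fun i : ℕ => L⟦m * (i : ℤ)⟧)] : clTri L = 0 := by
  set f := fun i : ℕ => L⟦m * (i : ℤ)⟧ with hf
  let Q := (∐ f)⟦m⟧
  have hQ : IsColimit (Cofan.mk Q fun i : ℕ => (shiftFunctor C m).map (Sigma.ι f i) :
      Cofan fun i : ℕ => (shiftFunctor C m).obj (f i)) :=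
    isColimitOfHasCoproductOfPreservesColimit (shiftFunctor C m) f
  let e0 : f 0 ≅ L := (shiftFunctorZero' C (m * ((0 : ℕ) : ℤ)) (by simp)).app L
  let es : ∀ i : ℕ, f (i + 1) ≅ (f i)⟦m⟧ := fun i =>
    (shiftFunctorAdd' C (m * (i : ℤ)) m (m * ((i + 1 : ℕ) : ℤ)) (by push_cast; ring)).app L
  let inj : ∀ i : ℕ, f i ⟶ L ⊞ Q := fun
    | 0 => e0.hom ≫ biprod.inl
    | i + 1 => (es i).hom ≫ (shiftFunctor C m).map (Sigma.ι f i) ≫ biprod.inr
  have hW : IsColimit (Cofan.mk (L ⊞ Q) inj : Cofan f) := by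
    refine mkCofanColimit _
      (fun s => biprod.desc (e0.inv ≫ s.inj 0)
        (Cofan.IsColimit.desc hQ fun i => (es i).inv ≫ s.inj (i + 1))) (fun s i => ?_)
      (fun s p hp => ?_)
    · cases i with
      | zero => simp [inj]
      | succ i =>
        simp only [inj, Cofan.mk_ι_app, Category.assoc, Cofan.inj, biprod.inr_desc]
        have := Cofan.IsColimit.fac hQ (fun i => (es i).inv ≫ s.inj (i + 1)) i
        simp only [Cofan.inj, Cofan.mk_ι_app] at this
        rw [this]
        simp [es]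
    · apply biprod.hom_ext'
      · rw [biprod.inl_desc, ← hp 0]
        simp [inj]
      · rw [biprod.inr_desc]
        refine Cofan.IsColimit.hom_ext hQ _ _ fun i => ?_
        rw [Cofan.IsColimit.fac, ← hp (i + 1)]
        simp [inj, Cofan.inj] <;> rfl
  have h1 : clTri (∐ f) = clTri (L ⊞ Q) :=
    clTri_eq_of_iso ((coproductIsCoproduct f).coconePointUniqueUpToIso hW)
  rw [clTri_biprod, hm] at h1
  exact (add_eq_right).1 h1.symm

theorem closure_clTri_image_eq_top (S : Set C)
    (hdense : ∀ T : Set C, S ⊆ T →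
      (∀ tr : Triangle C, tr ∈ distinguishedTriangles →
        (tr.obj₁ ∈ T → tr.obj₂ ∈ T → tr.obj₃ ∈ T) ∧ (tr.obj₁ ∈ T → tr.obj₃ ∈ T → tr.obj₂ ∈ T) ∧
          (tr.obj₂ ∈ T → tr.obj₃ ∈ T → tr.obj₁ ∈ T)) → T = Set.univ) :
    AddSubgroup.closure (clTri '' S) = (⊤ : AddSubgroup (K0tri C)) := by
  set H := AddSubgroup.closure (clTri '' S)
  have hT := hdense {X | clTri X ∈ H} (fun X hX => AddSubgroup.subset_closure ⟨X, hX, rfl⟩)
    (fun tr htr => by
      have h := clTri_triangle tr htr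
      simp only [Set.mem_ofPred_eq]
      refine ⟨fun h1 h2 => ?_, fun h1 h3 => ?_, fun h2 h3 => ?_⟩
      · exact (H.add_mem_cancel_left h1).1 (h ▸ h2)
      · exact h ▸ H.add_mem h1 h3
      · exact (H.add_mem_cancel_right h3).1 (h ▸ h2))
  refine top_unique fun x hx => ?_
  clear hx
  obtain ⟨z, rfl⟩ := QuotientAddGroup.mk_surjective x
  induction z using FreeAbelianGroup.induction_on with
  | zero => exact H.zero_mem
  | of X => exact hT.ge (Set.mem_univ X.1)
  | neg X hX => exact H.neg_mem hX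
  | add a b ha hb => exact H.add_mem ha hb

end Triangulated

section Abelian

variable {A : Type u} [Category.{v} A] [Abelian A]

theorem cl_shortExact (S : ShortComplex A) (hS : S.ShortExact) : cl S.X₂ = cl S.X₁ + cl S.X₃ := by
  have h : (QuotientAddGroup.mk (FreeAbelianGroup.of S.X₂ - FreeAbelianGroup.of S.X₁ -
      FreeAbelianGroup.of S.X₃) : K0 A) = 0 :=
    (QuotientAddGroup.eq_zero_iff _).2 (AddSubgroup.subset_closure ⟨S, hS, rfl⟩)
  rw [QuotientAddGroup.mk_sub, QuotientAddGroup.mk_sub] at h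
  change cl S.X₂ - cl S.X₁ - cl S.X₃ = 0 at h
  rw [sub_sub] at h
  exact sub_eq_zero.1 h

theorem closure_cl_image_eq_top (S : Set A)
    (hdense : ∀ T : Set A, S ⊆ T →
      (∀ X : ShortComplex A, X.ShortExact →
        (X.X₁ ∈ T → X.X₂ ∈ T → X.X₃ ∈ T) ∧ (X.X₁ ∈ T → X.X₃ ∈ T → X.X₂ ∈ T) ∧
          (X.X₂ ∈ T → X.X₃ ∈ T → X.X₁ ∈ T)) → T = Set.univ) :
    AddSubgroup.closure (cl '' S) = (⊤ : AddSubgroup (K0 A)) := by
  set H := AddSubgroup.closure (cl '' S)
  have hT := hdense {X | cl X ∈ H} (fun X hX => AddSubgroup.subset_closure ⟨X, hX, rfl⟩)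
    (fun X hX => by
      have h := cl_shortExact X hX
      simp only [Set.mem_ofPred_eq]
      refine ⟨fun h1 h2 => ?_, fun h1 h3 => ?_, fun h2 h3 => ?_⟩
      · exact (H.add_mem_cancel_left h1).1 (h ▸ h2)
      · exact h ▸ H.add_mem h1 h3
      · exact (H.add_mem_cancel_right h3).1 (h ▸ h2))
  refine top_unique fun x hx => ?_
  clear hx
  obtain ⟨z, rfl⟩ := QuotientAddGroup.mk_surjective x
  induction z using FreeAbelianGroup.induction_on with
  | zero => exact H.zero_mem
  | of X => exact hT.ge (Set.mem_univ X)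
  | neg X hX => exact H.neg_mem hX
  | add a b ha hb => exact H.add_mem ha hb

end Abelian

end Groth.Agent.An92.KZero
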